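import Mathlib
import Cfsg.Prelude.Def_Local
import Cfsg.Agent.Lib.Lead.Cores

/-!
# `p`-solvable groups: subgroups, quotients, existence of `p`-complements
-/

set_option autoImplicit false

namespace Cfsg.Agent.Lib.Helper69

open Subgroup Cfsg

universe u

variable {G : Type*} [Group G]

theorem relIndex_dvd_relIndex_of_normal (N L M : Subgroup G) [N.Normal] (hLM : L ≤ M) :
    N.relIndex L ∣ N.relIndex M := by
  rw [← relIndex_subgroupOf hLM]
  exact relIndex_dvd_index_of_normal (N.subgroupOf M) (L.subgroupOf M)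

theorem relIndex_map_dvd' {G' : Type*} [Group G'] (f : G →* G') (H K : Subgroup G) [H.Normal]
    (hHK : H ≤ K) : (H.map f).relIndex (K.map f) ∣ H.relIndex K := by
  rw [relIndex_map_map]
  have h1 : K ⊔ f.ker = K ⊔ (H ⊔ f.ker) := by
    rw [← sup_assoc, sup_eq_left.mpr hHK]
  rw [h1, relIndex_sup_right]
  exact relIndex_dvd_of_le_left K le_sup_left

theorem isPSolvable_of_surj {G' : Type*} [Group G'] {p : ℕ} [Fact p.Prime] (f : G →* G')
    (hf : Function.Surjective f) (hsol : IsPSolvable p G) : IsPSolvable p G' := by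
  obtain ⟨n, H, h0, hlast, hmono, hnorm, hstep⟩ := hsol
  refine ⟨n, fun i => (H i).map f, ?_, ?_, ?_, ?_, ?_⟩
  · simp [h0]
  · simp only [hlast]
    rw [← MonoidHom.range_eq_map, MonoidHom.range_eq_top.mpr hf]
  · intro i j hij
    exact map_mono (hmono hij)
  · intro i
    exact (hnorm i).map f hf
  · intro i
    have : (H i.castSucc).Normal := hnorm _
    have hd := relIndex_map_dvd' f (H i.castSucc) (H i.succ) (hmono (Fin.castSucc_le_succ i))
    rcases hstep i with ⟨m, hm⟩ | hcop
    · left
      rw [hm] at hd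
      obtain ⟨k, _, hk⟩ := (Nat.dvd_prime_pow Fact.out).mp hd
      exact ⟨k, hk⟩
    · right
      exact Nat.Coprime.of_dvd_left hd hcop

theorem isPSolvable_subgroup {p : ℕ} [Fact p.Prime] (K : Subgroup G) (hsol : IsPSolvable p G) :
    IsPSolvable p K := by
  obtain ⟨n, H, h0, hlast, hmono, hnorm, hstep⟩ := hsol
  refine ⟨n, fun i => (H i).subgroupOf K, ?_, ?_, ?_, ?_, ?_⟩
  · simp [h0]
  · simp [hlast]
  · intro i j hij
    exact comap_mono (hmono hij)
  · intro i
    have := hnorm i
    infer_instance
  · intro i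
    have : (H i.castSucc).Normal := hnorm _
    have hd : ((H i.castSucc).subgroupOf K).relIndex ((H i.succ).subgroupOf K) ∣
        (H i.castSucc).relIndex (H i.succ) := by
      have e1 : ((H i.castSucc).subgroupOf K).relIndex ((H i.succ).subgroupOf K) =
          (H i.castSucc).relIndex (((H i.succ).subgroupOf K).map K.subtype) :=
        relIndex_comap (H i.castSucc) K.subtype ((H i.succ).subgroupOf K)
      rw [e1, subgroupOf_map_subtype]
      exact relIndex_dvd_relIndex_of_normal _ _ _ inf_le_left
    rcases hstep i with ⟨m, hm⟩ | hcop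
    · left
      rw [hm] at hd
      obtain ⟨k, _, hk⟩ := (Nat.dvd_prime_pow Fact.out).mp hd
      exact ⟨k, hk⟩
    · right
      exact Nat.Coprime.of_dvd_left hd hcop

/-- a nontrivial `p`-solvable group has a nontrivial normal subgroup that is a `p`-group or a `p'`-group -/
theorem exists_normal_of_isPSolvable {p : ℕ} [Nontrivial G] (hsol : IsPSolvable p G) :
    ∃ N : Subgroup G, N.Normal ∧ N ≠ ⊥ ∧ ((∃ m : ℕ, Nat.card N = p ^ m) ∨ (Nat.card N).Coprime p) := by
  obtain ⟨n, H, h0, hlast, hmono, hnorm, hstep⟩ := hsol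
  by_contra hno
  push Not at hno
  have hall : ∀ i : Fin (n + 1), H i = ⊥ := by
    intro i
    induction i using Fin.induction with
    | zero => exact h0
    | succ i ih =>
      by_contra hne
      have h1 := hno (H i.succ) (hnorm _) hne
      have h2 := hstep i
      rw [ih, relIndex_bot_left] at h2
      rcases h2 with ⟨m, hm⟩ | hc
      · exact h1.1 m hm
      · exact h1.2 hc
  have := hall (Fin.last n)
  rw [hlast] at this
  exact top_ne_bot this

theorem exists_pComplement_aux {p : ℕ} [Fact p.Prime] :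
    ∀ (n : ℕ) (G : Type u) [Group G] [Finite G], Nat.card G = n → IsPSolvable p G →
      ∃ K : Subgroup G, (Nat.card K).Coprime p ∧ ∃ m : ℕ, K.index = p ^ m := by
  intro n
  induction n using Nat.strong_induction_on with
  | _ n ih =>
  intro G _ _ hn hsol
  rcases subsingleton_or_nontrivial G with hs | hnt
  · exact ⟨⊤, by simp, 0, by simp⟩
  obtain ⟨N, hNn, hNbot, hN⟩ := exists_normal_of_isPSolvable hsol
  have hNcard : 1 < Nat.card N := by
    rw [Finite.one_lt_card_iff_nontrivial]
    exact (nontrivial_iff_ne_bot N).2 hNbot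
  have hlt : Nat.card (G ⧸ N) < n := by
    rw [← hn, ← N.card_mul_index, ← index_eq_card]
    have : 0 < N.index := Nat.pos_of_ne_zero index_ne_zero_of_finite
    nlinarith
  obtain ⟨Kb, hKb, m, hm⟩ := ih _ hlt (G ⧸ N) rfl
    (isPSolvable_of_surj (QuotientGroup.mk' N) (QuotientGroup.mk'_surjective N) hsol)
  set K := Kb.comap (QuotientGroup.mk' N) with hK
  have hKidx : K.index = p ^ m := by
    rw [hK, index_comap_of_surjective Kb (QuotientGroup.mk'_surjective N), hm]
  have hKcard : Nat.card K = Nat.card N * Nat.card Kb := Cfsg.Agent.Lib.Lead.card_comap_mk' N Kb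
  rcases hN with ⟨j, hj⟩ | hc
  · -- `N` is a `p`-group : Schur-Zassenhaus in `K`
    have hNK : N ≤ K := by
      intro x hx
      rw [hK, mem_comap]
      have : QuotientGroup.mk' N x = 1 := (QuotientGroup.eq_one_iff x).2 hx
      rw [this]; exact one_mem _
    have hN'card : Nat.card (N.subgroupOf K) = p ^ j := by
      rw [← hj]
      exact Nat.card_congr (subgroupOfEquivOfLe hNK).toEquiv
    have hN'idx : (N.subgroupOf K).index = Nat.card Kb := by
      have h1 := (N.subgroupOf K).card_mul_index
      rw [hN'card, hKcard, hj] at h1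
      exact Nat.eq_of_mul_eq_mul_left (pow_pos (Fact.out : p.Prime).pos j) h1
    have hcop : (Nat.card (N.subgroupOf K)).Coprime (N.subgroupOf K).index := by
      rw [hN'card, hN'idx]
      exact (Nat.Coprime.pow_right j hKb).symm
    obtain ⟨L', hL'⟩ := exists_right_complement'_of_coprime hcop
    refine ⟨L'.map K.subtype, ?_, j + m, ?_⟩
    · rw [Nat.card_congr (L'.equivMapOfInjective K.subtype K.subtype_injective).symm.toEquiv,
        ← hL'.symm.index_eq_card, hN'idx]
      exact hKb
    · rw [index_map_subtype, hL'.index_eq_card, hN'card, hKidx, pow_add]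
  · exact ⟨K, by rw [hKcard]; exact Nat.Coprime.mul_left hc hKb, m, hKidx⟩

theorem exists_pComplement {G : Type u} [Group G] [Finite G] {p : ℕ} [Fact p.Prime]
    (hsol : IsPSolvable p G) :
    ∃ K : Subgroup G, (Nat.card K).Coprime p ∧ ∃ m : ℕ, K.index = p ^ m :=
  exists_pComplement_aux _ G rfl hsol

end Cfsg.Agent.Lib.Helper69
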