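import Mathlib
import Cfsg.Agent.Lib.Helper69.SylowCent

/-!
# A `p`-element whose class size is a power of `p` lies in every Sylow `p`-subgroup
-/

set_option autoImplicit false

namespace Cfsg.Agent.Lib.Helper69

open Subgroup

variable {G : Type*} [Group G]

theorem mem_normalizer_of_conj_le [Finite G] (H : Subgroup G) (g : G)
    (h : ∀ y ∈ H, g * y * g⁻¹ ∈ H) : g ∈ normalizer (H : Set G) := by
  rw [mem_normalizer_iff_map_conj_eq]
  apply eq_of_le_of_card_ge
  · rintro _ ⟨y, hy, rfl⟩
    exact h y hy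
  · exact (Nat.card_congr (H.equivMapOfInjective _ (MulAut.conj g).injective).toEquiv).le

/-- (Wielandt) a `p`-element of `p`-power index lies in every Sylow `p`-subgroup, i.e. in `O_p(G)`. -/
theorem mem_sylow_of_index_centralizer_eq_pow [Finite G] {p : ℕ} [Fact p.Prime] (x : G)
    (hx : ∃ k : ℕ, x ^ (p ^ k) = 1) {a : ℕ} (ha : (centralizer ({x} : Set G)).index = p ^ a)
    (S : Sylow p G) : x ∈ S := by
  have hp : p.Prime := Fact.out
  set C := centralizer ({x} : Set G) with hC
  -- the index of `S ⊓ C` in `C` is prime to `p`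
  have e1 : ((S : Subgroup G) ⊓ C).relIndex C * C.index = ((S : Subgroup G) ⊓ C).index :=
    relIndex_mul_index inf_le_right
  have e2 : ((S : Subgroup G) ⊓ C).relIndex S * (S : Subgroup G).index = ((S : Subgroup G) ⊓ C).index :=
    relIndex_mul_index inf_le_left
  have e3 : ((S : Subgroup G) ⊓ C).index ≤ (S : Subgroup G).index * C.index := index_inf_le
  have hm : ¬ p ∣ (S : Subgroup G).index := S.not_dvd_index
  have hr : ¬ p ∣ ((S : Subgroup G) ⊓ C).relIndex C := by
    have h1 : (S : Subgroup G).index ∣ ((S : Subgroup G) ⊓ C).relIndex C * p ^ a := by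
      rw [← ha, e1, ← e2]; exact dvd_mul_left _ _
    have hcop : ((S : Subgroup G).index).Coprime (p ^ a) :=
      Nat.Coprime.pow_right _ ((Nat.Prime.coprime_iff_not_dvd hp).2 hm).symm
    have h2 : (S : Subgroup G).index ∣ ((S : Subgroup G) ⊓ C).relIndex C := hcop.dvd_of_dvd_mul_right h1
    have h3 : ((S : Subgroup G) ⊓ C).relIndex C ≤ (S : Subgroup G).index := by
      rw [← e1] at e3
      exact Nat.le_of_mul_le_mul_right e3 (Nat.pos_of_ne_zero C.index_ne_zero_of_finite)
    have h4 : ((S : Subgroup G) ⊓ C).relIndex C ≠ 0 := by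
      intro h0
      rw [h0, zero_mul] at e1
      exact index_ne_zero_of_finite e1.symm
    have h5 : ((S : Subgroup G) ⊓ C).relIndex C = (S : Subgroup G).index :=
      le_antisymm h3 (Nat.le_of_dvd (Nat.pos_of_ne_zero h4) h2)
    rw [h5]; exact hm
  have hT : IsPGroup p (((S : Subgroup G) ⊓ C).subgroupOf C) :=
    (S.isPGroup'.to_inf_left).comap_subtype
  let Q : Sylow p C := hT.toSylow hr
  have hxC : x ∈ C := by rw [hC, mem_cent_singleton]
  let x' : C := ⟨x, hxC⟩
  have hnorm : (zpowers x').Normal := by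
    constructor
    intro n hn g
    obtain ⟨i, rfl⟩ := mem_zpowers_iff.1 hn
    have hcomm : Commute g x' := by
      apply Subtype.ext
      exact mem_cent_singleton.1 g.2
    have : g * x' ^ i * g⁻¹ = x' ^ i := by
      rw [(hcomm.zpow_right i).eq]; group
    rw [this]; exact hn
  have hz : IsPGroup p (zpowers x') := by
    obtain ⟨k, hk⟩ := hx
    apply IsPGroup.of_card_dvd_pow (n := k)
    rw [Nat.card_zpowers]
    apply orderOf_dvd_of_pow_eq_one
    ext
    simpa using hk
  have h6 : x' ∈ Q := hz.le_sylow_of_normal Q (mem_zpowers x')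
  have h7 : x' ∈ ((S : Subgroup G) ⊓ C).subgroupOf C := h6
  rw [mem_subgroupOf] at h7
  exact h7.1

end Cfsg.Agent.Lib.Helper69
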