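import Mathlib
import Cfsg.Agent.Lib.Helper69.Wielandt

/-!
# Sylow theory and Burnside's transfer theorem inside a subgroup, stated in the ambient group
-/

set_option autoImplicit false

namespace Cfsg.Agent.Lib.Helper69

open Subgroup

variable {G : Type*} [Group G]

/-- two Sylow subgroups of `G` contained in `K` are conjugate by an element of `K` -/
theorem exists_smul_eq_of_le [Finite G] {p : ℕ} [Fact p.Prime] (K : Subgroup G) (P P' : Sylow p G)
    (hP : (P : Subgroup G) ≤ K) (hP' : (P' : Subgroup G) ≤ K) : ∃ c ∈ K, c • P' = P := by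
  obtain ⟨c, hc⟩ := MulAction.exists_smul_eq K (P'.subtype hP') (P.subtype hP)
  refine ⟨c, c.2, ?_⟩
  rw [Sylow.smul_subtype] at hc
  exact Sylow.subtype_injective hc

theorem mem_smul_sylow {p : ℕ} (P : Sylow p G) (c z : G) : z ∈ (c • P : Sylow p G) ↔ c⁻¹ * z * c ∈ P := by
  rw [← SetLike.mem_coe, Sylow.coe_smul]
  constructor
  · rintro ⟨y, hy, rfl⟩
    have : c⁻¹ * (MulAut.conj c • y) * c = y := by
      simp [MulAut.smul_def, MulAut.conj_apply, mul_assoc]
    rw [this]; exact hy
  · intro h
    refine ⟨_, h, ?_⟩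
    simp [MulAut.smul_def, MulAut.conj_apply, mul_assoc]

/-- Burnside's theorem for a subgroup `K`, hypotheses phrased in `G` -/
theorem burnside_in_subgroup [Finite G] {p : ℕ} [Fact p.Prime] (K : Subgroup G) (Q : Sylow p K)
    (h : ∀ x ∈ K, x ∈ normalizer (((Q : Subgroup K).map K.subtype : Subgroup G) : Set G) →
      x ∈ centralizer (((Q : Subgroup K).map K.subtype : Subgroup G) : Set G)) :
    Cfsg.HasNormalPComplement p K := by
  apply hasNormalPComplement_of_normalizer_le_centralizer Q
  intro x hx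
  have h1 : (x : G) ∈ normalizer (((Q : Subgroup K).map K.subtype : Subgroup G) : Set G) := by
    apply mem_normalizer_of_conj_le
    rintro _ ⟨w, hw, rfl⟩
    exact ⟨x * w * x⁻¹, (mem_normalizer_iff.1 hx w).1 hw, rfl⟩
  have h2 := h x x.2 h1
  rw [mem_centralizer_iff] at h2 ⊢
  intro w hw
  apply Subtype.ext
  exact h2 w ⟨w, hw, rfl⟩

end Cfsg.Agent.Lib.Helper69
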