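import Mathlib
import Cfsg.Agent.S4142
import Cfsg.Agent.S4155
import Cfsg.Agent.Lib.Helper69.SubgroupSylow

/-!
# Camina pairs: basic facts

`Cam N`: every `g ∉ N` is conjugate to all of `g N`.
-/

set_option autoImplicit false

namespace Cfsg.Agent.Lib.Helper69

open Subgroup Cfsg.Agent.S4155

variable {G : Type*} [Group G]

/-- `(G, N)` is a Camina pair -/
def Cam (N : Subgroup G) : Prop :=
  ∀ g : G, g ∉ N → ∀ n ∈ N, ∃ x : G, x * g * x⁻¹ = g * n

theorem Cam.eqOrd {N : Subgroup G} (h : Cam N) : EqOrd N := by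
  intro x hx n hn
  obtain ⟨w, hw⟩ := h x hx n hn
  rw [← hw]
  exact (MulAut.conj w).orderOf_eq x

theorem Cam.quot {N : Subgroup G} (h : Cam N) (M : Subgroup G) [M.Normal] :
    Cam (N.map (QuotientGroup.mk' M)) := by
  intro g hg n hn
  obtain ⟨g, rfl⟩ := QuotientGroup.mk_surjective g
  obtain ⟨n, hn, rfl⟩ := hn
  have hgN : g ∉ N := fun h' => hg ⟨g, h', rfl⟩
  obtain ⟨x, hx⟩ := h g hgN n hn
  refine ⟨(x : G ⧸ M), ?_⟩
  have := congrArg (QuotientGroup.mk' M) hx
  simpa using this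

theorem Cam.card_centralizer [Finite G] {N : Subgroup G} [N.Normal] (h : Cam N) {g : G} (hg : g ∉ N) :
    Nat.card (centralizer ({g} : Set G)) =
      Nat.card (centralizer ({(QuotientGroup.mk g : G ⧸ N)} : Set (G ⧸ N))) :=
  (Cfsg.Agent.S4142.result N).1 h g hg

/-- a `p`-element of `G ⧸ N` lifts to a `p`-element -/
theorem exists_lift_pElement [Finite G] (N : Subgroup G) [N.Normal] (p : ℕ) [Fact p.Prime] (c : G ⧸ N)
    (hc : ∃ k : ℕ, c ^ (p ^ k) = 1) : ∃ g : G, (g : G ⧸ N) = c ∧ ∃ k : ℕ, g ^ (p ^ k) = 1 := by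
  have hp : p.Prime := Fact.out
  obtain ⟨g, rfl⟩ := QuotientGroup.mk_surjective c
  obtain ⟨i, j, hij, hi, hj⟩ := exists_p_decomp p g
  obtain ⟨k, hk⟩ := hc
  have hjN : ((g ^ j : G) : G ⧸ N) = 1 := by
    rw [← orderOf_eq_one_iff]
    have h1 : orderOf ((g ^ j : G) : G ⧸ N) ∣ orderOf (g ^ j) :=
      orderOf_map_dvd (QuotientGroup.mk' N) _
    have h2 : orderOf ((g ^ j : G) : G ⧸ N) ∣ p ^ k := by
      apply orderOf_dvd_of_pow_eq_one
      rw [QuotientGroup.mk_pow, ← pow_mul, mul_comm, pow_mul, hk, one_pow]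
    obtain ⟨l, -, hl⟩ := (Nat.dvd_prime_pow hp).1 h2
    rcases Nat.eq_zero_or_pos l with h0 | h0
    · rw [hl, h0, pow_zero]
    · exfalso
      apply hj
      refine dvd_trans ?_ h1
      rw [hl]
      exact dvd_pow_self p h0.ne'
  refine ⟨g ^ i, ?_, hi⟩
  conv_rhs => rw [← hij]
  rw [QuotientGroup.mk_mul, hjN, mul_one]

/-- an element outside `N` has a power outside `N` whose `s`-th power is in `N`, `s` a prime -/
theorem exists_prime_pow_not_mem [Finite G] (N : Subgroup G) [N.Normal] {x : G} (hxN : x ∉ N) :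
    ∃ (s m : ℕ), s.Prime ∧ s ∣ N.index ∧ x ^ m ∉ N ∧ (x ^ m) ^ s ∈ N := by
  have hx1 : orderOf (x : G ⧸ N) ≠ 1 := by
    rw [Ne, orderOf_eq_one_iff, QuotientGroup.eq_one_iff]
    exact hxN
  obtain ⟨q, hq, hqd⟩ := Nat.exists_prime_and_dvd hx1
  have hqi : q ∣ N.index := by
    rw [Subgroup.index_eq_card]
    exact hqd.trans (orderOf_dvd_natCard _)
  obtain ⟨m, hm⟩ := hqd
  refine ⟨q, m, hq, hqi, ?_, ?_⟩
  · intro hy
    rw [← QuotientGroup.eq_one_iff, QuotientGroup.mk_pow] at hy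
    have h1 := orderOf_dvd_of_pow_eq_one hy
    rw [hm] at h1
    have hm0 : 0 < m := by
      rcases Nat.eq_zero_or_pos m with h0 | h0
      · rw [h0, mul_zero] at hm
        exact absurd hm (orderOf_pos _).ne'
      · exact h0
    have h2 := Nat.le_of_dvd hm0 h1
    have := hq.two_le
    nlinarith
  · rw [← QuotientGroup.eq_one_iff, ← pow_mul, mul_comm, ← hm, QuotientGroup.mk_pow, pow_orderOf_eq_one]

/-- every element of a Sylow subgroup has a conjugate in it which is "fully centralised" -/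
theorem exists_fully_centralized [Finite G] {p : ℕ} [Fact p.Prime] (Q : Sylow p G) {c₀ : G} (hc₀ : c₀ ∈ Q) :
    ∃ t : G, t * c₀ * t⁻¹ ∈ Q ∧ ∀ a : ℕ, p ^ a ∣ Nat.card (centralizer ({t * c₀ * t⁻¹} : Set G)) →
      p ^ a ∣ Nat.card (centralizer ({t * c₀ * t⁻¹} : Set G) ⊓ (Q : Subgroup G) : Subgroup G) := by
  have hp : p.Prime := Fact.out
  set C := centralizer ({c₀} : Set G) with hC
  have hcC : c₀ ∈ C := mem_cent_singleton.2 rfl
  have hz : IsPGroup p (zpowers (⟨c₀, hcC⟩ : C)) := by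
    obtain ⟨k, hk⟩ := Q.2 ⟨c₀, hc₀⟩
    apply IsPGroup.of_card_dvd_pow (n := k)
    rw [Nat.card_zpowers]
    apply orderOf_dvd_of_pow_eq_one
    ext
    have := congrArg Subtype.val hk
    simpa using this
  obtain ⟨S, hS⟩ := hz.exists_le_sylow
  have hS' : IsPGroup p ((S : Subgroup C).map C.subtype) := S.2.map _
  obtain ⟨Q', hQ'⟩ := hS'.exists_le_sylow
  obtain ⟨t, ht⟩ := MulAction.exists_smul_eq G Q' Q
  have hconj : ∀ s ∈ (S : Subgroup C).map C.subtype, t * s * t⁻¹ ∈ Q := by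
    intro s hs
    rw [← ht, mem_smul_sylow]
    have : t⁻¹ * (t * s * t⁻¹) * t = s := by group
    rw [this]
    exact hQ' hs
  refine ⟨t, hconj _ ⟨⟨c₀, hcC⟩, hS (mem_zpowers _), rfl⟩, fun a ha => ?_⟩
  have hle : ((S : Subgroup C).map C.subtype).map (MulAut.conj t).toMonoidHom ≤
      centralizer ({t * c₀ * t⁻¹} : Set G) ⊓ (Q : Subgroup G) := by
    rintro _ ⟨s, hs, rfl⟩
    refine Subgroup.mem_inf.2 ⟨?_, hconj s hs⟩
    rw [centralizer_conj]
    obtain ⟨w, _, rfl⟩ := hs
    exact ⟨w, w.2, rfl⟩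
  refine dvd_trans ?_ (Subgroup.card_dvd_of_le hle)
  rw [Subgroup.card_map_of_injective (MulAut.conj t).injective,
    Subgroup.card_map_of_injective C.subtype_injective, S.card_eq_multiplicity]
  rw [centralizer_conj, Subgroup.card_map_of_injective (MulAut.conj t).injective] at ha
  exact (hp.pow_dvd_iff_dvd_ordProj Nat.card_pos.ne').1 ha

/-- a `p`-element normalising (as always) the normal subgroup `N` of order divisible by `p` lies with a nontrivial
element of `N` in an abelian `p`-subgroup -/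
theorem exists_pGroup_of_pElement [Finite G] (N : Subgroup G) [N.Normal] {p : ℕ} [Fact p.Prime]
    (hpN : p ∣ Nat.card N) {d : G} (hd : ∃ k : ℕ, d ^ (p ^ k) = 1) :
    ∃ (u : G) (T : Subgroup G), u ∈ N ∧ u ≠ 1 ∧ Commute d u ∧ IsPGroup p T ∧ d ∈ T ∧ u ∈ T ∧
      T ≤ centralizer ({d} : Set G) := by
  obtain ⟨k, hk⟩ := hd
  have hz : IsPGroup p (zpowers d) := by
    apply IsPGroup.of_card_dvd_pow (n := k)
    rw [Nat.card_zpowers]
    exact orderOf_dvd_of_pow_eq_one hk
  obtain ⟨P, hP⟩ := hz.exists_le_sylow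
  have hdP : d ∈ P := hP (mem_zpowers d)
  obtain ⟨⟨n₀, hn₀N⟩, hn₀⟩ := exists_prime_orderOf_dvd_card' p hpN
  rw [Subgroup.orderOf_mk] at hn₀
  have hz0 : IsPGroup p (zpowers n₀) := by
    apply IsPGroup.of_card_dvd_pow (n := 1)
    rw [Nat.card_zpowers, hn₀, pow_one]
  obtain ⟨P', hP'⟩ := hz0.exists_le_sylow
  obtain ⟨t, ht⟩ := MulAction.exists_smul_eq G P' P
  have h1 : t * n₀ * t⁻¹ ∈ P := by
    rw [← ht, mem_smul_sylow]
    have : t⁻¹ * (t * n₀ * t⁻¹) * t = n₀ := by group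
    rw [this]
    exact hP' (mem_zpowers _)
  have h2 : t * n₀ * t⁻¹ ∈ N := ‹N.Normal›.conj_mem _ hn₀N t
  have h3 : t * n₀ * t⁻¹ ≠ 1 := by
    intro h
    have : n₀ = 1 := by
      have := congrArg (fun z => t⁻¹ * z * t) h
      simpa [mul_assoc] using this
    rw [this, orderOf_one] at hn₀
    exact (Fact.out : p.Prime).one_lt.ne hn₀
  have hne : N.subgroupOf (P : Subgroup G) ≠ ⊥ := by
    intro h
    have : (⟨t * n₀ * t⁻¹, h1⟩ : (P : Subgroup G)) ∈ N.subgroupOf (P : Subgroup G) := by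
      rw [mem_subgroupOf]; exact h2
    rw [h, mem_bot] at this
    exact h3 (congrArg Subtype.val this)
  have hnil : Group.IsNilpotent (P : Subgroup G) := P.2.isNilpotent
  have h4 := Cfsg.Agent.Lib.Helper1.normal_inf_center_ne_bot hne
  obtain ⟨⟨u, hu⟩, hu1⟩ := Subgroup.ne_bot_iff_exists_ne_one.1 h4
  obtain ⟨huN, huc⟩ := Subgroup.mem_inf.1 hu
  rw [mem_subgroupOf] at huN
  have hcomm : Commute d (u : G) := by
    have := Subgroup.mem_center_iff.1 huc ⟨d, hdP⟩
    exact congrArg Subtype.val this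
  refine ⟨u, centralizer ({d} : Set G) ⊓ (P : Subgroup G), huN, ?_, hcomm, P.2.to_le inf_le_right,
    Subgroup.mem_inf.2 ⟨mem_cent_singleton.2 rfl, hdP⟩,
    Subgroup.mem_inf.2 ⟨mem_cent_singleton.2 hcomm.symm.eq, u.2⟩, inf_le_left⟩
  intro h
  apply hu1
  apply Subtype.ext
  apply Subtype.ext
  simpa using h

/-- In a Camina pair with `p ∣ |N|`, a Sylow `p`-subgroup of `G ⧸ N` cannot have "cyclic centralisers". -/
theorem Cam.false_of_cyclic_centralizers [Finite G] {N : Subgroup G} [N.Normal] (h : Cam N) {p : ℕ}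
    [Fact p.Prime] (hpN : p ∣ Nat.card N) (Q : Sylow p (G ⧸ N)) (k : ℕ) (hex : ∃ c ∈ Q, c ^ k ≠ 1)
    (hcyc : ∀ c ∈ Q, c ^ k ≠ 1 → ∃ d ∈ Q, Commute d c ∧ ∀ s ∈ Q, Commute s c → s ∈ zpowers d) : False := by
  have hp : p.Prime := Fact.out
  obtain ⟨c₀, hc₀, hc₀k⟩ := hex
  obtain ⟨t, hcQ, hfull⟩ := exists_fully_centralized Q hc₀
  obtain ⟨c, hc⟩ : ∃ c, c = t * c₀ * t⁻¹ := ⟨_, rfl⟩
  rw [← hc] at hcQ hfull
  have hck : c ^ k ≠ 1 := by
    rw [hc, conj_pow]
    intro h'
    apply hc₀k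
    have := congrArg (fun z => t⁻¹ * z * t) h'
    simpa [mul_assoc] using this
  have hc1 : c ≠ 1 := by
    rintro rfl
    exact hck (one_pow k)
  obtain ⟨d', hd'Q, hd'c, hd'⟩ := hcyc c hcQ hck
  obtain ⟨j, hj⟩ := hd' c hcQ (Commute.refl c)
  have hj : d' ^ j = c := hj
  obtain ⟨d, hdd', hd⟩ := exists_lift_pElement N p d' (by
    obtain ⟨l, hl⟩ := Q.2 ⟨d', hd'Q⟩
    exact ⟨l, by simpa using congrArg Subtype.val hl⟩)
  obtain ⟨u, T, huN, hu1, hdu, hT, hdT, huT, hTd⟩ := exists_pGroup_of_pElement N hpN hd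
  have hxN : d ^ j ∉ N := by
    rw [← QuotientGroup.eq_one_iff, QuotientGroup.mk_zpow, hdd', hj]
    exact hc1
  have hTx : T ≤ centralizer ({d ^ j} : Set G) := by
    intro w hw
    have h1 : Commute w d := mem_cent_singleton.1 (hTd hw)
    exact mem_cent_singleton.2 (h1.zpow_right j).eq
  have h1 : Nat.card T ∣ Nat.card (centralizer ({c} : Set (G ⧸ N))) := by
    have := h.card_centralizer hxN
    rw [QuotientGroup.mk_zpow, hdd', hj] at this
    rw [← this]
    exact Subgroup.card_dvd_of_le hTx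
  obtain ⟨a, ha⟩ := hT.exists_card_eq
  rw [ha] at h1
  have h2 := hfull a h1
  have h3 : centralizer ({c} : Set (G ⧸ N)) ⊓ (Q : Subgroup (G ⧸ N)) ≤ zpowers d' := by
    intro s hs
    obtain ⟨hs1, hs2⟩ := Subgroup.mem_inf.1 hs
    exact hd' s hs2 (mem_cent_singleton.1 hs1)
  have h4 : Nat.card T ∣ orderOf d' := by
    rw [ha, ← Nat.card_zpowers]
    exact h2.trans (Subgroup.card_dvd_of_le h3)
  -- the other inequality
  let f : T →* G ⧸ N := (QuotientGroup.mk' N).comp T.subtype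
  have h5 : orderOf d' ∣ Nat.card f.range := by
    rw [← Nat.card_zpowers]
    apply Subgroup.card_dvd_of_le
    rw [zpowers_le]
    exact ⟨⟨d, hdT⟩, hdd'⟩
  have h6 : Nat.card f.ker * Nat.card f.range = Nat.card T := by
    rw [← Subgroup.index_ker, Subgroup.card_mul_index]
  have h7 : 1 < Nat.card f.ker := by
    rw [Finite.one_lt_card_iff_nontrivial]
    refine ⟨⟨⟨⟨u, huT⟩, ?_⟩, 1, ?_⟩⟩
    · rw [MonoidHom.mem_ker]
      exact (QuotientGroup.eq_one_iff u).2 huN
    · intro h'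
      apply hu1
      have h'' := congrArg Subtype.val (congrArg Subtype.val h')
      simpa using h''
  have h8 : Nat.card T ≤ Nat.card f.range :=
    Nat.le_of_dvd Nat.card_pos (h4.trans h5)
  have h9 : 0 < Nat.card f.range := Nat.card_pos
  nlinarith

theorem zmod_two_mul_eq_zero {m : ℕ} [NeZero m] (j : ZMod (2 * m)) (h : j + j = 0) : j = 0 ∨ j = (m : ZMod (2 * m)) := by
  have hm : 0 < m := Nat.pos_of_ne_zero (NeZero.ne m)
  have h1 : ((j.val + j.val : ℕ) : ZMod (2 * m)) = 0 := by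
    push_cast
    rw [ZMod.natCast_zmod_val, h]
  rw [ZMod.natCast_eq_zero_iff] at h1
  have h2 : j.val < 2 * m := ZMod.val_lt j
  obtain ⟨c, hc⟩ := h1
  have h3 : j.val = m * c := by nlinarith
  have h4 : c < 2 := by
    by_contra hcon
    push Not at hcon
    nlinarith
  have h5 : j = ((m * c : ℕ) : ZMod (2 * m)) := by rw [← h3, ZMod.natCast_zmod_val]
  interval_cases c
  · left; simpa using h5
  · right; simpa using h5

open QuaternionGroup in
theorem quaternion_centralizer_cyclic {m : ℕ} [NeZero m] (γ : QuaternionGroup m) (hγ : γ ^ 2 ≠ 1) :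
    ∃ δ : QuaternionGroup m, Commute δ γ ∧ ∀ σ, Commute σ γ → σ ∈ zpowers δ := by
  have hmm : (m : ZMod (2 * m)) + m = 0 := by
    have : ((2 * m : ℕ) : ZMod (2 * m)) = 0 := ZMod.natCast_self _
    rw [← this]; push_cast; ring
  rcases γ with i | i
  · refine ⟨a 1, ?_, ?_⟩
    · show a 1 * a i = a i * a 1
      rw [a_mul_a, a_mul_a, add_comm]
    · rintro (j | j) hσ
      · refine ⟨(j.val : ℤ), ?_⟩
        show (a 1 : QuaternionGroup m) ^ (j.val : ℤ) = a j
        rw [zpow_natCast, a_one_pow, ZMod.natCast_zmod_val]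
      · exfalso
        apply hγ
        have h1 : xa j * a i = a i * xa j := hσ
        rw [xa_mul_a, a_mul_xa] at h1
        have h2 : j + i = j - i := by simpa using h1
        have h3 : i + i = 0 := by linear_combination h2
        rw [sq, a_mul_a, h3, a_zero]
  · refine ⟨xa i, Commute.refl _, ?_⟩
    have hsq : (xa i : QuaternionGroup m) ^ 2 = a m := xa_sq i
    rintro (j | j) hσ
    · have h1 : a j * xa i = xa i * a j := hσ
      rw [xa_mul_a, a_mul_xa] at h1
      have h2 : i - j = i + j := by simpa using h1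
      have h3 : j + j = 0 := by linear_combination -h2
      rcases zmod_two_mul_eq_zero j h3 with rfl | rfl
      · rw [a_zero]; exact one_mem _
      · rw [← hsq]; exact pow_mem (mem_zpowers _) 2
    · have h1 : xa j * xa i = xa i * xa j := hσ
      rw [xa_mul_xa, xa_mul_xa] at h1
      have h2 : (m : ZMod (2 * m)) + i - j = m + j - i := by simpa using h1
      have h3 : (j - i) + (j - i) = 0 := by linear_combination -h2
      rcases zmod_two_mul_eq_zero _ h3 with h4 | h4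
      · have : j = i := by linear_combination h4
        rw [this]; exact mem_zpowers _
      · have h5 : xa j = (xa i : QuaternionGroup m) ^ 2 * xa i := by
          rw [hsq, a_mul_xa]
          congr 1
          linear_combination h4 + hmm
        rw [h5]
        exact mul_mem (pow_mem (mem_zpowers _) 2) (mem_zpowers _)

/-- In a Camina pair with `p` dividing `|N|` and `|G : N|`, the Sylow `p`-subgroups of `G ⧸ N` are neither cyclic nor
generalised quaternion. -/
theorem Cam.not_cyclic_or_quaternion [Finite G] {N : Subgroup G} [N.Normal] (h : Cam N) {p : ℕ}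
    [Fact p.Prime] (hpN : p ∣ Nat.card N) (hpi : p ∣ N.index) (Q : Sylow p (G ⧸ N)) :
    ¬ (IsCyclic (Q : Subgroup (G ⧸ N)) ∨
      ∃ n : ℕ, Nonempty ((Q : Subgroup (G ⧸ N)) ≃* QuaternionGroup (2 ^ n))) := by
  have hp : p.Prime := Fact.out
  rintro (hcyc | ⟨n, ⟨e⟩⟩)
  · obtain ⟨⟨g, hgQ⟩, hg⟩ := hcyc.exists_generator
    have hall : ∀ s ∈ Q, s ∈ zpowers g := by
      intro s hs
      obtain ⟨j, hj⟩ := hg ⟨s, hs⟩
      exact ⟨j, by simpa using congrArg Subtype.val hj⟩
    apply h.false_of_cyclic_centralizers hpN Q 1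
    · have hne : (Q : Subgroup (G ⧸ N)) ≠ ⊥ := by
        intro hbot
        have h1 := Q.card_eq_multiplicity
        rw [hbot, Subgroup.card_bot] at h1
        have h2 : p ∣ p ^ (Nat.card (G ⧸ N)).factorization p := by
          apply dvd_pow_self
          have : 0 < (Nat.card (G ⧸ N)).factorization p :=
            hp.factorization_pos_of_dvd Nat.card_pos.ne' (by rwa [← Subgroup.index_eq_card])
          omega
        rw [← h1] at h2
        exact hp.one_lt.ne' (Nat.dvd_one.1 h2)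
      obtain ⟨⟨c, hc⟩, hc1⟩ := Subgroup.ne_bot_iff_exists_ne_one.1 hne
      refine ⟨c, hc, ?_⟩
      rw [pow_one]
      intro h'
      exact hc1 (Subtype.ext h')
    · intro c hc _
      refine ⟨g, hgQ, ?_, fun s hs _ => hall s hs⟩
      obtain ⟨j, hj⟩ := hall c hc
      have hj : g ^ j = c := hj
      rw [← hj]
      exact (Commute.refl g).zpow_right j
  · apply h.false_of_cyclic_centralizers hpN Q 2
    · refine ⟨(e.symm (QuaternionGroup.xa 0) : (Q : Subgroup (G ⧸ N))), (e.symm (QuaternionGroup.xa 0)).2, ?_⟩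
      intro h'
      have h1 : (e.symm (QuaternionGroup.xa 0)) ^ 2 = 1 := Subtype.ext (by simpa using h')
      have h2 : (QuaternionGroup.xa 0 : QuaternionGroup (2 ^ n)) ^ 2 = 1 := by
        have := congrArg e h1
        simpa using this
      have h3 := orderOf_dvd_of_pow_eq_one h2
      rw [QuaternionGroup.orderOf_xa] at h3
      omega
    · intro c hc hc2
      have h1 : (e ⟨c, hc⟩) ^ 2 ≠ 1 := by
        intro h'
        apply hc2
        have h2 : e (⟨c, hc⟩ ^ 2) = e 1 := by rw [map_pow, h', map_one]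
        have h3 := e.injective h2
        simpa using congrArg Subtype.val h3
      obtain ⟨δ, hδ, hall⟩ := quaternion_centralizer_cyclic _ h1
      refine ⟨(e.symm δ : (Q : Subgroup (G ⧸ N))), (e.symm δ).2, ?_, ?_⟩
      · have h2 : Commute (e.symm δ) (e.symm (e ⟨c, hc⟩)) := hδ.map e.symm
        rw [e.symm_apply_apply] at h2
        exact congrArg Subtype.val h2.eq
      · intro s hs hsc
        have h2 : Commute (⟨s, hs⟩ : (Q : Subgroup (G ⧸ N))) ⟨c, hc⟩ := Subtype.ext hsc.eq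
        obtain ⟨j, hj⟩ := hall _ (h2.map e)
        have hj : δ ^ j = e ⟨s, hs⟩ := hj
        refine ⟨j, ?_⟩
        have h3 : (e.symm δ) ^ j = ⟨s, hs⟩ := by
          rw [← map_zpow, hj, e.symm_apply_apply]
        simpa using congrArg Subtype.val h3

/-- A Camina pair with nilpotent kernel, `p` dividing `|N|` and `|G : N|`: the kernel is a `p`-group. -/
theorem Cam.eq_of_nilpotent [Finite G] {N : Subgroup G} [N.Normal] (h : Cam N)
    (hnil : Group.IsNilpotent N) {p : ℕ} [Fact p.Prime] (hpN : p ∣ Nat.card N) (hpi : p ∣ N.index)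
    {r : ℕ} (hr : r.Prime) (hrN : r ∣ Nat.card N) : r = p := by
  have hp : p.Prime := Fact.out
  by_contra hne
  have hN1 : N ≠ ⊥ := by
    rintro rfl
    rw [Subgroup.card_bot] at hpN
    exact hp.one_lt.ne' (Nat.dvd_one.1 hpN)
  have hN2 : N ≠ ⊤ := by
    rintro rfl
    rw [Subgroup.index_top] at hpi
    exact hp.one_lt.ne' (Nat.dvd_one.1 hpi)
  have hnpp : ¬ IsPrimePow (Nat.card N) := by
    intro hpp
    obtain ⟨s, k, hs, -, hk⟩ := hpp
    rw [← hk] at hpN hrN
    have h1 := (Nat.prime_dvd_prime_iff_eq hp hs.nat_prime).1 (hp.dvd_of_dvd_pow hpN)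
    have h2 := (Nat.prime_dvd_prime_iff_eq hr hs.nat_prime).1 (hr.dvd_of_dvd_pow hrN)
    exact hne (h2.trans h1.symm)
  obtain ⟨Q⟩ : Nonempty (Sylow p (G ⧸ N)) := inferInstance
  exact h.not_cyclic_or_quaternion hpN hpi Q ((Cfsg.Agent.S4155.result N hN1 hN2 h.eqOrd hnil hnpp).2 p Q)

end Cfsg.Agent.Lib.Helper69
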