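import Mathlib
import Cfsg.Agent.S0081
import Cfsg.Agent.Lib.Helper2.PGroupFrattini
import Cfsg.Agent.Lib.Helper69.Camina

/-!
# Camina pairs: the kernel has a normal `p`-complement for every prime `p` dividing `|G : N|`
-/

set_option autoImplicit false

namespace Cfsg.Agent.Lib.Helper69

open Subgroup Cfsg.Agent.S4155
open scoped commutatorElement

/-- if the class of `z` lies in `z P₀` and the centraliser of `z` is small, the class is all of `z P₀` -/
theorem exists_conj_eq_mul_of_card_le {P : Type*} [Group P] [Finite P] (P₀ : Subgroup P) (z : P)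
    (hz : ∀ w : P, z⁻¹ * (w * z * w⁻¹) ∈ P₀)
    (hcard : Nat.card (centralizer ({z} : Set P)) * Nat.card P₀ ≤ Nat.card P) :
    ∀ u ∈ P₀, ∃ w : P, w * z * w⁻¹ = z * u := by
  have h1 := index_centralizer_eq_ncard_range z
  have h2 : Set.range (fun g : P => g * z * g⁻¹) ⊆ (fun u => z * u) '' (P₀ : Set P) := by
    rintro _ ⟨w, rfl⟩
    exact ⟨_, hz w, by simp⟩
  have h3 : ((fun u => z * u) '' (P₀ : Set P)).ncard = Nat.card P₀ := by
    rw [Set.ncard_image_of_injective _ (mul_right_injective z)]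
    rfl
  have h4 := (centralizer ({z} : Set P)).card_mul_index
  have h5 : Nat.card P₀ ≤ (centralizer ({z} : Set P)).index := by
    rw [← h4] at hcard
    exact Nat.le_of_mul_le_mul_left hcard Nat.card_pos
  have h6 := Set.eq_of_subset_of_ncard_le h2 (by rw [h3, ← h1]; exact h5) (Set.toFinite _)
  intro u hu
  have h7 : z * u ∈ Set.range (fun g : P => g * z * g⁻¹) := by
    rw [h6]; exact ⟨u, hu, rfl⟩
  exact h7

variable {G : Type*} [Group G]

theorem Cam.inf_sylow_le_frattini [Finite G] {N : Subgroup G} [N.Normal] (h : Cam N) {p : ℕ}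
    [Fact p.Prime] (hpi : p ∣ N.index) (P : Sylow p G) :
    N ⊓ (P : Subgroup G) ≤ (frattini (P : Subgroup G)).map (P : Subgroup G).subtype := by
  have hp : p.Prime := Fact.out
  set P₀ := N.subgroupOf (P : Subgroup G) with hP₀
  have hne : P₀ ≠ ⊤ := by
    intro htop
    rw [hP₀, subgroupOf_eq_top] at htop
    exact P.not_dvd_index (hpi.trans (Subgroup.index_dvd_of_le htop))
  have hnt : Nontrivial ((P : Subgroup G) ⧸ P₀) := by
    rw [← Finite.one_lt_card_iff_nontrivial, ← Subgroup.index_eq_card]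
    have h0 : P₀.index ≠ 0 := Subgroup.index_ne_zero_of_finite
    have h1 : P₀.index ≠ 1 := fun h' => hne (Subgroup.index_eq_one.1 h')
    omega
  have hq : IsPGroup p ((P : Subgroup G) ⧸ P₀) := P.2.to_quotient P₀
  have hcn := hq.center_nontrivial
  obtain ⟨⟨z', hz'c⟩, hz'1⟩ := exists_ne (1 : center ((P : Subgroup G) ⧸ P₀))
  obtain ⟨z, rfl⟩ := QuotientGroup.mk_surjective z'
  have hzP₀ : z ∉ P₀ := by
    intro h'
    apply hz'1
    apply Subtype.ext
    exact (QuotientGroup.eq_one_iff z).2 h'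
  have hzN : (z : G) ∉ N := fun h' => hzP₀ (mem_subgroupOf.2 h')
  have hz : ∀ w : (P : Subgroup G), z⁻¹ * (w * z * w⁻¹) ∈ P₀ := by
    intro w
    rw [← QuotientGroup.eq_one_iff]
    have := Subgroup.mem_center_iff.1 hz'c (w : (P : Subgroup G) ⧸ P₀)
    rw [QuotientGroup.mk_mul, QuotientGroup.mk_mul, QuotientGroup.mk_mul, QuotientGroup.mk_inv,
      QuotientGroup.mk_inv, this, mul_inv_cancel_right, inv_mul_cancel]
  have hcard : Nat.card (centralizer ({z} : Set (P : Subgroup G))) * Nat.card P₀ ≤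
      Nat.card (P : Subgroup G) := by
    obtain ⟨a, ha⟩ := (P.2.to_subgroup (centralizer ({z} : Set (P : Subgroup G)))).exists_card_eq
    have h1 : (centralizer ({z} : Set (P : Subgroup G))).map (P : Subgroup G).subtype ≤
        centralizer ({(z : G)} : Set G) := by
      rintro _ ⟨w, hw, rfl⟩
      have hw' := mem_cent_singleton.1 (SetLike.mem_coe.1 hw)
      rw [mem_cent_singleton]
      exact congrArg Subtype.val hw'
    have h2 := Subgroup.card_dvd_of_le h1
    rw [Subgroup.card_map_of_injective (P : Subgroup G).subtype_injective, ha, h.card_centralizer hzN] at h2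
    have h3 : p ^ a ∣ N.index := by
      rw [Subgroup.index_eq_card]
      exact h2.trans (Subgroup.card_subgroup_dvd_card _)
    have h4 : N.index ∣ N.relIndex (P : Subgroup G) * (P : Subgroup G).index := by
      rw [← Subgroup.inf_relIndex_right, Subgroup.relIndex_mul_index inf_le_right,
        ← Subgroup.relIndex_mul_index (inf_le_left : N ⊓ (P : Subgroup G) ≤ N)]
      exact dvd_mul_left _ _
    have h5 : p ^ a ∣ N.relIndex (P : Subgroup G) := by
      apply Nat.Coprime.dvd_of_dvd_mul_right _ (h3.trans h4)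
      apply Nat.Coprime.pow_left
      exact (Nat.Prime.coprime_iff_not_dvd hp).2 P.not_dvd_index
    have h6 : p ^ a ≤ P₀.index := Nat.le_of_dvd (Nat.pos_of_ne_zero Subgroup.index_ne_zero_of_finite) h5
    rw [ha, ← P₀.index_mul_card]
    exact Nat.mul_le_mul_right _ h6
  have key := exists_conj_eq_mul_of_card_le P₀ z hz hcard
  intro u hu
  obtain ⟨huN, huP⟩ := Subgroup.mem_inf.1 hu
  obtain ⟨w, hw⟩ := key ⟨u, huP⟩ (mem_subgroupOf.2 huN)
  refine ⟨⟨u, huP⟩, ?_, rfl⟩
  apply Cfsg.Agent.Lib.Helper2.commutator_le_frattini P.2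
  have h1 : (⟨u, huP⟩ : (P : Subgroup G)) = ⁅z⁻¹, w⁆ := by
    rw [commutatorElement_def, inv_inv, mul_assoc z⁻¹, mul_assoc z⁻¹, hw, inv_mul_cancel_left]
  rw [h1, _root_.commutator_def]
  exact Subgroup.commutator_mem_commutator (mem_top _) (mem_top _)

/-- the normal `p`-complement of the kernel of a Camina pair, as a normal subgroup of `G` -/
theorem Cam.exists_normal_pComplement [Finite G] {N : Subgroup G} [hN : N.Normal] (h : Cam N) {p : ℕ}
    [Fact p.Prime] (hpi : p ∣ N.index) :
    ∃ M : Subgroup G, M.Normal ∧ M ≤ N ∧ (∀ n ∈ N, n ∈ M ↔ (orderOf n).Coprime p) ∧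
      ∃ k : ℕ, ∀ n ∈ N, n ^ (p ^ k) ∈ M := by
  have hp : p.Prime := Fact.out
  obtain ⟨P⟩ : Nonempty (Sylow p G) := inferInstance
  obtain ⟨P₀, A, hA, hcompl⟩ := Cfsg.Agent.S0081.result P N (h.inf_sylow_le_frattini hpi P)
  have hidx : A.index = Nat.card (P₀ : Subgroup N) := hcompl.symm.index_eq_card
  have hP₀ := P₀.card_eq_multiplicity
  have hcop : (Nat.card A).Coprime p := by
    rw [Nat.coprime_comm, Nat.Prime.coprime_iff_not_dvd hp]
    intro hd
    have h1 := hcompl.card_mul_card
    rw [hP₀] at h1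
    apply Nat.pow_succ_factorization_not_dvd (Nat.card_pos (α := N)).ne' hp
    rw [pow_succ, mul_comm]
    conv_rhs => rw [← h1]
    exact Nat.mul_dvd_mul_right hd _
  have hchar : ∀ n : N, n ∈ A ↔ (orderOf n).Coprime p := by
    intro n
    constructor
    · intro hn
      apply Nat.Coprime.of_dvd_left _ hcop
      rw [← Subgroup.orderOf_mk n hn]
      exact orderOf_dvd_natCard _
    · intro hn
      rw [← QuotientGroup.eq_one_iff, ← orderOf_eq_one_iff]
      have h1 : orderOf (n : N ⧸ A) ∣ orderOf n := orderOf_map_dvd (QuotientGroup.mk' A) n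
      have h2 : orderOf (n : N ⧸ A) ∣ p ^ (Nat.card N).factorization p := by
        rw [← hP₀, ← hidx, Subgroup.index_eq_card]
        exact orderOf_dvd_natCard _
      exact Nat.eq_one_of_dvd_coprimes (hn.pow_right _) h1 h2
  have hmem : ∀ (n : G) (hn : n ∈ N), n ∈ A.map N.subtype ↔ (orderOf n).Coprime p := by
    intro n hn
    rw [← Subgroup.orderOf_mk n hn, ← hchar]
    constructor
    · rintro ⟨w, hw, hwn⟩
      have : w = ⟨n, hn⟩ := Subtype.ext hwn
      rwa [← this]
    · intro h'
      exact ⟨_, h', rfl⟩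
  have hle : A.map N.subtype ≤ N := by
    rintro _ ⟨w, _, rfl⟩
    exact w.2
  refine ⟨A.map N.subtype, ⟨?_⟩, hle, hmem, (Nat.card N).factorization p, ?_⟩
  · intro m hm g
    have hmN := hle hm
    rw [hmem _ (hN.conj_mem m hmN g)]
    have : orderOf (g * m * g⁻¹) = orderOf m := (MulAut.conj g).orderOf_eq m
    rw [this]
    exact (hmem m hmN).1 hm
  · intro n hn
    refine ⟨⟨n, hn⟩ ^ (p ^ (Nat.card N).factorization p), ?_, by simp⟩
    rw [SetLike.mem_coe, ← QuotientGroup.eq_one_iff, QuotientGroup.mk_pow, ← hP₀, ← hidx, Subgroup.index_eq_card]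
    exact pow_card_eq_one'

end Cfsg.Agent.Lib.Helper69
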