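import Mathlib

set_option autoImplicit false

namespace Cfsg.Agent.Lib.Helper69.RO

/-- PIECE B4 (pure group theory). -/
theorem quot_normalizer_iso {G : Type*} [Group G] [Finite G] (M : Subgroup G) [M.Normal]
    (P : Sylow 2 G) {T : Subgroup G} (hPT : (P : Subgroup G) ≤ T) :
    Nonempty ((Subgroup.normalizer (((P.subtype hPT : Sylow 2 T) : Subgroup T) : Set T)) ⧸
        (M.subgroupOf T).subgroupOf
          (Subgroup.normalizer (((P.subtype hPT : Sylow 2 T) : Subgroup T) : Set T)) ≃*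
      ↥(Subgroup.normalizer ((P : Subgroup G) : Set G) ⊓ T) ⧸
        M.subgroupOf (Subgroup.normalizer ((P : Subgroup G) : Set G) ⊓ T)) := by
  have key : ∀ t : T, t ∈ Subgroup.normalizer (((P.subtype hPT : Sylow 2 T) : Subgroup T) : Set T) ↔
      (t : G) ∈ Subgroup.normalizer ((P : Subgroup G) : Set G) := by
    intro t
    rw [Sylow.coe_subtype, ← Subgroup.subgroupOf_normalizer_eq hPT, Subgroup.mem_subgroupOf]
  let e : ↥(Subgroup.normalizer (((P.subtype hPT : Sylow 2 T) : Subgroup T) : Set T)) ≃*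
      ↥(Subgroup.normalizer ((P : Subgroup G) : Set G) ⊓ T) :=
    { toFun := fun x => ⟨((x : T) : G), Subgroup.mem_inf.mpr ⟨(key x).mp x.2, (x : T).2⟩⟩
      invFun := fun y => ⟨⟨(y : G), (Subgroup.mem_inf.mp y.2).2⟩,
        (key _).mpr (Subgroup.mem_inf.mp y.2).1⟩
      left_inv := fun x => rfl
      right_inv := fun y => rfl
      map_mul' := fun x y => rfl }
  refine ⟨QuotientGroup.congr _ _ e ?_⟩
  ext y
  constructor
  · rintro ⟨x, hx, rfl⟩
    exact hx
  · intro hy
    exact ⟨e.symm y, hy, e.apply_symm_apply y⟩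

end Cfsg.Agent.Lib.Helper69.RO
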